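import Groth.Agent.Lib.AlgClosedExt25.Ff
import Groth.Agent.Lib.FEtEq25.Thickening
import Groth.Prelude.Def_FSch4

/-!
# Etale covers of a system of thickenings and of its smallest level
-/

set_option autoImplicit false
set_option linter.style.haveILetI false
set_option backward.isDefEq.respectTransparency false

universe u

open CategoryTheory CategoryTheory.Limits AlgebraicGeometry

noncomputable section

namespace Groth.Agent.EtCovLevelH7

variable {X X' : Scheme.{u}} (i : X ⟶ X')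

section hom

variable {P Q : FEt.Cat X'} {P₀ Q₀ : Scheme.{u}} {p : P₀ ⟶ X} {q : Q₀ ⟶ X} {a : P₀ ⟶ P.left} {b : Q₀ ⟶ Q.left}

/-- Morphisms of covers agreeing on the thickened part are equal. -/
theorem hom_ext_of_restrict [(FEt.restrict i).Faithful] (hP : IsPullback a p P.hom i) (f g : P ⟶ Q)
    (h : a ≫ f.left = a ≫ g.left) : f = g := by
  refine (FEt.restrict i).map_injective (MorphismProperty.Over.Hom.ext (pullback.hom_ext ?_ ?_))
  · simp only [FEt.restrict, MorphismProperty.Over.pullback_map_left, pullback.lift_fst]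
    rw [← cancel_epi hP.isoPullback.hom, hP.isoPullback_hom_fst_assoc, hP.isoPullback_hom_fst_assoc, h]
  · simp only [FEt.restrict, MorphismProperty.Over.pullback_map_left, pullback.lift_snd]

/-- Morphisms on the thickened part extend. -/
theorem exists_hom_of_restrict [(FEt.restrict i).Full] (hP : IsPullback a p P.hom i) (hQ : IsPullback b q Q.hom i)
    (g : P₀ ⟶ Q₀) (hg : g ≫ q = p) : ∃ f : P ⟶ Q, a ≫ f.left = g ≫ b := by
  let g' : (FEt.restrict i).obj P ⟶ (FEt.restrict i).obj Q :=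
    MorphismProperty.Over.homMk (hP.isoPullback.inv ≫ g ≫ hQ.isoPullback.hom) (by
      show (hP.isoPullback.inv ≫ g ≫ hQ.isoPullback.hom) ≫ pullback.snd _ _ = pullback.snd _ _
      rw [Category.assoc, Category.assoc, hQ.isoPullback_hom_snd, hg, hP.isoPullback_inv_snd])
  obtain ⟨f, hf⟩ := (FEt.restrict i).map_surjective g'
  refine ⟨f, ?_⟩
  have h := congrArg (fun t : (FEt.restrict i).obj P ⟶ (FEt.restrict i).obj Q =>
    hP.isoPullback.hom ≫ t.left ≫ pullback.fst Q.hom i) hf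
  simpa [g', FEt.restrict] using h

end hom

/-- Covers of the thickened part extend. -/
theorem exists_extend [(FEt.restrict i).EssSurj] (P₀ : FEt.Cat X) :
    ∃ (P : FEt.Cat X') (a : P₀.left ⟶ P.left), IsPullback a P₀.hom P.hom i := by
  let e := (FEt.restrict i).objObjPreimageIso P₀
  let P := (FEt.restrict i).objPreimage P₀
  let el := (Over.forget X).mapIso ((MorphismProperty.Over.forget FEt.prop ⊤ X).mapIso e)
  exact ⟨P, el.inv ≫ pullback.fst P.hom i, (IsPullback.of_hasPullback P.hom i).of_iso el (Iso.refl _) (Iso.refl _) (Iso.refl _)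
    (by simp) ((Category.comp_id _).trans (MorphismProperty.Over.w e.hom).symm) (by simp) (by simp)⟩

variable (𝔛 : FSch.Sys.{u})

theorem isEquivalence_ι (h : 𝔛.IsFormal) (n : ℕ) : (FEt.restrict (𝔛.ι n)).IsEquivalence := by
  haveI := (h n).1
  haveI : Surjective (𝔛.ι n) := ⟨(h n).2⟩
  haveI := (AlgClosedExt25.fullyFaithful_of_closedImmersion (𝔛.ι n)).1
  haveI := (AlgClosedExt25.fullyFaithful_of_closedImmersion (𝔛.ι n)).2
  haveI := FEtEq25.essSurj_restrict_thickening (𝔛.ι n)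
  exact { }

/-- The underlying levels of a cover. -/
abbrev lev (R : FSch.EtCov 𝔛) (n : ℕ) : FEt.Cat (𝔛.X n) := (FSch.EtCov.level 𝔛 n).obj R

theorem isPullback_lev (R : FSch.EtCov 𝔛) (n : ℕ) :
    IsPullback ((R.obj.left : FSch.Sys.{u}).ι n) (lev 𝔛 R n).hom (lev 𝔛 R (n + 1)).hom (𝔛.ι n) :=
  R.property.1 n

theorem faithful (h : 𝔛.IsFormal) : (FSch.EtCov.level 𝔛 0).Faithful := by
  refine ⟨fun {R R'} φ ψ h0 => ?_⟩
  have key : ∀ n, (FSch.EtCov.level 𝔛 n).map φ = (FSch.EtCov.level 𝔛 n).map ψ := by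
    intro n
    induction n with
    | zero => exact h0
    | succ n ih =>
      haveI := isEquivalence_ι 𝔛 h n
      refine hom_ext_of_restrict (𝔛.ι n) (isPullback_lev 𝔛 R n) _ _ ?_
      show _ ≫ (φ.hom.left : FSch.Hom _ _).app (n + 1) = _ ≫ (ψ.hom.left : FSch.Hom _ _).app (n + 1)
      rw [← (φ.hom.left : FSch.Hom _ _).comm n, ← (ψ.hom.left : FSch.Hom _ _).comm n]
      exact congrArg (· ≫ _) (congrArg (fun t => t.left) ih)
  refine ObjectProperty.hom_ext _ (Over.OverMorphism.ext (FSch.Hom.ext (funext fun n => ?_)))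
  exact congrArg (fun t => t.left) (key n)

theorem full (h : 𝔛.IsFormal) : (FSch.EtCov.level 𝔛 0).Full := by
  refine ⟨fun {R R'} g => ?_⟩
  have step : ∀ n (f : lev 𝔛 R n ⟶ lev 𝔛 R' n), ∃ f' : lev 𝔛 R (n + 1) ⟶ lev 𝔛 R' (n + 1),
      (R.obj.left : FSch.Sys.{u}).ι n ≫ f'.left = f.left ≫ (R'.obj.left : FSch.Sys.{u}).ι n := fun n f => by
    haveI := isEquivalence_ι 𝔛 h n
    exact exists_hom_of_restrict (𝔛.ι n) (isPullback_lev 𝔛 R n) (isPullback_lev 𝔛 R' n) f.left
      (MorphismProperty.Over.w f)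
  choose nxt hnxt using step
  let F : ∀ n, lev 𝔛 R n ⟶ lev 𝔛 R' n := fun n =>
    Nat.rec (motive := fun n => lev 𝔛 R n ⟶ lev 𝔛 R' n) g (fun n f => nxt n f) n
  let φ : (R.obj.left : FSch.Sys.{u}) ⟶ R'.obj.left := ⟨fun n => (F n).left, fun n => (hnxt n (F n)).symm⟩
  refine ⟨⟨Over.homMk φ (FSch.Hom.ext (funext fun n => ?_))⟩, ?_⟩
  · exact MorphismProperty.Over.w (F n)
  · exact MorphismProperty.Over.Hom.ext rfl

theorem essSurj (h : 𝔛.IsFormal) : (FSch.EtCov.level 𝔛 0).EssSurj := by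
  refine ⟨fun P₀ => ?_⟩
  have step : ∀ n (P : FEt.Cat (𝔛.X n)), ∃ (Q : FEt.Cat (𝔛.X (n + 1))) (a : P.left ⟶ Q.left),
      IsPullback a P.hom Q.hom (𝔛.ι n) := fun n P => by
    haveI := isEquivalence_ι 𝔛 h n
    exact exists_extend (𝔛.ι n) P
  choose nxt a ha using step
  let P : ∀ n, FEt.Cat (𝔛.X n) := fun n => Nat.rec (motive := fun n => FEt.Cat (𝔛.X n)) P₀ (fun n Q => nxt n Q) n
  let ℜ : FSch.Sys.{u} := ⟨fun n => (P n).left, fun n => a n (P n)⟩
  let f : ℜ ⟶ 𝔛 := ⟨fun n => (P n).hom, fun n => (ha n (P n)).w.symm⟩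
  exact ⟨⟨Over.mk f, ⟨fun n => ha n (P n), fun n => (P n).prop⟩⟩, ⟨Iso.refl _⟩⟩

/-- Etale covers of the system are etale covers of the smallest level. -/
theorem isEquivalence_level (h : 𝔛.IsFormal) : (FSch.EtCov.level 𝔛 0).IsEquivalence := by
  haveI := faithful 𝔛 h
  haveI := full 𝔛 h
  haveI := essSurj 𝔛 h
  exact { }

end Groth.Agent.EtCovLevelH7
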